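import Groth.Agent.DualCx.BidualityGen
import Groth.Agent.DualCx.Gorenstein
import Groth.Agent.S5165
import Mathlib

/-!
# Biduality into the ring for a regular ring of arbitrary dimension

Over a regular Noetherian ring every finite module has finite projective dimension, so biduality with
respect to an injective resolution `J` of the ring holds without any bound on the dimension.
-/

set_option autoImplicit false
set_option linter.style.haveILetI false
universe u

open CategoryTheory CategoryTheory.Limits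
open CochainComplex.HomComplex

attribute [local instance] HasDerivedCategory.standard

noncomputable section

namespace Groth.Agent.DualFinite

open DualCx DualCx.Biduality
open DualCx.Amplitude (sgl sglIso)

variable {A : Type u} [CommRing A]

theorem exists_injModel [IsNoetherianRing A] :
    ∃ (J : DRing.Cx A) (_ : J.IsKInjective), (∀ q, Injective (J.X q)) ∧ (DRing.toD J).IsGE 0 ∧
      Nonempty (DRing.toD J ≅ Dual.inD A A) := by
  have h0 : (Dual.inD A A).IsGE 0 :=
    inferInstanceAs (((DerivedCategory.singleFunctor (ModuleCat.{u} A) 0).obj _).IsGE 0)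
  obtain ⟨J, hJ, ⟨e⟩⟩ := Residue.exists_rep (ω := Dual.inD A A) (a := (0 : ℤ)) fun i hi =>
    (DRing.DBasic.subsingleton_HD_iff_isZero _ i).mpr
      (DerivedCategory.isZero_of_isGE (Dual.inD A A) 0 i hi)
  exact ⟨J, hJ.isKInjective, hJ.1, DerivedCategory.TStructure.t.isGE_of_iso e.symm 0, ⟨e⟩⟩

variable {J : DRing.Cx A} [J.IsKInjective]

/-- `η` is bijective in every degree on `M[0]`. -/
def Bm (J : DRing.Cx A) (M : Type u) [AddCommGroup M] [Module A M] : Prop :=
  ∀ i, Function.Bijective (Hm (Dc.η J (sgl (ModuleCat.of A M))) i)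

omit [J.IsKInjective] in
theorem cls_evCochain_one (hz : DRing.Homology.IsCyc (sgl (ModuleCat.of A A)) 0
    ((HomologicalComplex.singleObjXSelf (ComplexShape.up ℤ) 0 (ModuleCat.of A A)).inv.hom (1 : A))) :
    Dc.evCochain J (sgl (ModuleCat.of A A)) 0
        ((HomologicalComplex.singleObjXSelf (ComplexShape.up ℤ) 0 (ModuleCat.of A A)).inv.hom (1 : A)) =
      Cochain.ofHom (unitDualIso J).hom := by
  refine Cochain.ext _ _ fun n q h => ?_
  obtain rfl : q = n := by omega
  refine ModuleCat.hom_ext (LinearMap.ext fun ψ => ?_)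
  rw [Dc.evCochain_v, Cochain.ofHom_v, mul_zero, Int.negOnePow_zero, Units.val_one, one_smul]
  rfl

omit [J.IsKInjective] in
theorem cls_congr' {K : DRing.Cx A} {i : ℤ} {z w : K.X i} (h : z = w)
    (hz : DRing.Homology.IsCyc K i z) (hw : DRing.Homology.IsCyc K i w) :
    DRing.Homology.cls z hz = DRing.Homology.cls w hw := by
  subst h; rfl

omit [J.IsKInjective] in
theorem sglH0_cls (M : ModuleCat.{u} A) (m : M) (hz : DRing.Homology.IsCyc (sgl M) 0
    ((HomologicalComplex.singleObjXSelf (ComplexShape.up ℤ) 0 M).inv.hom m)) :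
    sglH0 M (DRing.Homology.cls _ hz) = m := by
  change ((sgl M).homologyπ 0 ≫ (HomologicalComplex.singleObjHomologySelfIso (ComplexShape.up ℤ) (0 : ℤ) M).hom).hom
    (DRing.Homology.cyc _ hz) = m
  erw [HomologicalComplex.homologyπ_singleObjHomologySelfIso_hom]
  have h : (HomologicalComplex.singleObjCyclesSelfIso (ComplexShape.up ℤ) (0 : ℤ) M).hom =
      (sgl M).iCycles 0 ≫ (HomologicalComplex.singleObjXSelf (ComplexShape.up ℤ) 0 M).hom := by
    simp [HomologicalComplex.singleObjCyclesSelfIso]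
    rfl
  rw [h, ModuleCat.hom_comp, LinearMap.comp_apply, DRing.Homology.iCycles_cyc]
  exact congr($((HomologicalComplex.singleObjXSelf (ComplexShape.up ℤ) 0 M).inv_hom_id).hom m)

theorem classHom_ofHom {X : DRing.Cx A} (φ : X ⟶ J) :
    Cx.classHom X J 0 (CohomologyClass.mk (Cocycle.ofHom φ)) =
      DerivedCategory.Q.map φ ≫ (shiftFunctorZero (Dual.D A) ℤ).inv.app (DRing.toD J) := by
  have h1 : Cx.classHom X J 0 (CohomologyClass.mk (Cocycle.ofHom φ)) =
      DerivedCategory.Q.map φ ≫ Cx.classHom J J 0 (CohomologyClass.mk (Cocycle.ofHom (𝟙 J))) := by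
    rw [← Dc.classHom_precomp]
    congr 2
    ext p
    simp
  rw [h1]
  congr 1
  have key : Cx.classHom J J 0 (CohomologyClass.mk (Cocycle.ofHom (𝟙 J))) =
      Hom.congr A ((DerivedCategory.quotientCompQhIso (ModuleCat.{u} A)).app J)
        ((DerivedCategory.quotientCompQhIso (ModuleCat.{u} A)).app (J⟦(0 : ℤ)⟧) ≪≫
          ((DerivedCategory.Q (C := ModuleCat.{u} A)).commShiftIso (0 : ℤ)).app J)
        (DerivedCategory.Qh.map ((HomotopyCategory.quotient _ _).map
          ((Cocycle.equivHomShift (K := J) (L := J) (n := 0)).symm (Cocycle.ofHom (𝟙 J))))) := rfl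
  rw [key]
  have h2 : Cocycle.equivHomShift.symm (Cocycle.ofHom (𝟙 J)) =
      (shiftFunctorZero (CochainComplex (ModuleCat.{u} A) ℤ) ℤ).inv.app J := by
    ext p
    simp [Cocycle.equivHomShift_symm_apply, CochainComplex.shiftFunctorZero_inv_app_f,
      Cochain.rightShift_v (Cochain.ofHom (𝟙 J)) 0 0 (add_zero 0) p p (add_zero p) p (add_zero p), HomologicalComplex.XIsoOfEq]
  rw [h2]
  simp only [Hom.congr, CategoryTheory.Linear.homCongr_apply, Iso.trans_hom, Iso.app_inv, Iso.app_hom,
    Category.assoc]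
  erw [← (DerivedCategory.quotientCompQhIso (ModuleCat.{u} A)).inv.naturality_assoc,
    Iso.inv_hom_id_app_assoc]
  rw [Functor.commShiftIso_zero, Functor.CommShift.isoZero_hom_app, ← Category.assoc,
    ← Functor.map_comp, Iso.inv_hom_id_app]
  erw [CategoryTheory.Functor.map_id, Category.id_comp]

theorem hom_self_facts (e : DRing.toD J ≅ Dual.inD A A) :
    (∀ q : ℤ, q ≠ 0 → Subsingleton (DRing.toD J ⟶ (DRing.toD J)⟦q⟧)) ∧
      Function.Bijective fun a : A => a • 𝟙 (DRing.toD J) := by
  constructor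
  · intro q hq
    have : Subsingleton (Dual.HD A (Dual.inD A A) q) :=
      have := Residue.subsingleton_HD_unit (A := A) q hq
      ((DRing.DBasic.HF q).mapIso (Cx.unitIso A)).toLinearEquiv.symm.toEquiv.subsingleton
    have := (Cx.homUnitEquivShift (Dual.inD A A) q).toEquiv.subsingleton
    exact (Hom.congr A e ((shiftFunctor (Dual.D A) q).mapIso e)).toEquiv.subsingleton
  · have h := (Hom.congr A e.symm e.symm).bijective.comp (Gorenstein.toEnd_inD (A := A))
    convert h using 1
    funext a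
    simp [Hom.congr, CategoryTheory.Linear.homCongr_apply]

/-- biduality for the ring -/
theorem bm_self (e : DRing.toD J ≅ Dual.inD A A) : Bm J A := by
  intro i
  let X := sgl (ModuleCat.of A A)
  let T : ∀ q : ℤ, (Dc.D J (Dc.D J X)).homology q ≃ₗ[A] (DRing.toD J ⟶ (DRing.toD J)⟦q⟧) := fun q =>
    (Dc.hEquiv J (Dc.D J X) q).symm.trans
      (Hom.congr A (DerivedCategory.Q.mapIso (unitDualIso J)) (Iso.refl _))
  obtain ⟨hv, hb⟩ := hom_self_facts e
  by_cases hi : i = 0
  swap
  · have := exists_rep_sgl (ModuleCat.of A A) i hi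
    have := hv i hi
    have := (T i).toEquiv.subsingleton
    exact ⟨fun x y _ => Subsingleton.elim _ _, fun y => ⟨0, Subsingleton.elim _ _⟩⟩
  subst hi
  let z₀ : X.X 0 := (HomologicalComplex.singleObjXSelf (ComplexShape.up ℤ) 0 (ModuleCat.of A A)).inv.hom (1 : A)
  have hz₀ : DRing.Homology.IsCyc X 0 z₀ := by
    have : Subsingleton (X.X ((0 : ℤ) + 1)) :=
      ModuleCat.subsingleton_of_isZero (HomologicalComplex.isZero_single_obj_X
        (ComplexShape.up ℤ) (0 : ℤ) (ModuleCat.of A A) ((0 : ℤ) + 1) (by omega))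
    exact Subsingleton.elim _ _
  have hgen : sglH0 (ModuleCat.of A A) (DRing.Homology.cls z₀ hz₀) = (1 : A) := by
    exact sglH0_cls _ 1 hz₀
  -- the class of `1` goes to the identity
  have key : (Hom.shiftZero A _ _) (T 0 (Hm (Dc.η J X) 0 (DRing.Homology.cls z₀ hz₀))) = 𝟙 (DRing.toD J) := by
    have h1 : Hm (Dc.η J X) 0 (DRing.Homology.cls z₀ hz₀) =
        Dc.toH J (Dc.D J X) 0 (Cocycle.ofHom (unitDualIso J).hom) := by
      rw [Hm, DRing.Homology.homologyMap_cls]
      exact cls_congr' (cls_evCochain_one hz₀) _ _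
    rw [h1, ← Dc.hEquiv_classHom, classHom_ofHom]
    simp [T, Hom.congr, Hom.shiftZero, CategoryTheory.Linear.homCongr_apply]
  let Φ : A →ₗ[A] (DRing.toD J ⟶ DRing.toD J) :=
    ((Hom.shiftZero A _ _).toLinearMap.comp (T 0).toLinearMap).comp
      ((Hm (Dc.η J X) 0).comp (sglH0 (ModuleCat.of A A)).symm.toLinearMap)
  have hΦ : Function.Bijective Φ := by
    convert hb using 1
    funext a
    rw [show a = a • (1 : A) by simp, map_smul, smul_eq_mul, mul_one]
    congr 1
    rw [← key]
    simp [Φ, ← hgen, X]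
  have h' : Function.Bijective ((T 0).trans (Hom.shiftZero A _ _) ∘ (Hm (Dc.η J X) 0) ∘
      (sglH0 (ModuleCat.of A A)).symm) := hΦ
  rw [Function.Bijective.of_comp_iff' ((T 0).trans (Hom.shiftZero A _ _)).bijective,
    Function.Bijective.of_comp_iff _ (sglH0 (ModuleCat.of A A)).symm.bijective] at h'
  exact h'

variable [IsNoetherianRing A] (hI : ∀ q, Injective (J.X q))
include hI

variable {M₁ M₂ M₃ : Type u} [AddCommGroup M₁] [Module A M₁] [AddCommGroup M₂]
    [Module A M₂] [AddCommGroup M₃] [Module A M₃] {f : M₁ →ₗ[A] M₂} {g : M₂ →ₗ[A] M₃}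
    (hf : Function.Injective f) (hg : Function.Surjective g) (hfg : Function.Exact f g)

include hf hg hfg in
/-- two out of three: the quotient -/
theorem bm_right (b₁ : Bm J M₁) (b₂ : Bm J M₂) : Bm J M₃ := by
  intro i
  have h₁ := srcS_shortExact hf hg hfg
  have h₂ := ddS_shortExact (I := J) hI hf hg hfg
  let φ := sqHom (I := J) hfg
  refine ⟨(injective_iff_map_eq_zero _).mpr fun (x : (srcS hfg).X₃.homology i) hx => ?_,
    fun (y : (ddS (I := J) hfg).X₃.homology i) => ?_⟩
  · change Hm φ.τ₃ i x = 0 at hx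
    have hd : dl h₁ i (i + 1) rfl x = 0 := (b₁ (i + 1)).1 (by
      change Hm φ.τ₁ (i + 1) _ = Hm φ.τ₁ (i + 1) 0
      rw [← comm_dl φ h₁ h₂, hx, map_zero, map_zero])
    obtain ⟨y, rfl⟩ := (ex₃ h₁ i (i + 1) rfl x).mp hd
    obtain ⟨w, hw⟩ := (ex₂ h₂ i (Hm φ.τ₂ i y)).mp ((comm_g φ i y).trans hx)
    obtain ⟨v, rfl⟩ := (b₁ i).2 w
    change Hm (ddS hfg).f i (Hm φ.τ₁ i v) = _ at hw
    rw [comm_f] at hw
    rw [← (b₂ i).1 hw]
    exact (ex₂ h₁ i).apply_apply_eq_zero v
  · obtain ⟨v, hv⟩ := (b₁ (i + 1)).2 (dl h₂ i (i + 1) rfl y)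
    change Hm φ.τ₁ (i + 1) v = _ at hv
    have hfv : Hm (srcS hfg).f (i + 1) v = 0 := (b₂ (i + 1)).1 (by
      change Hm φ.τ₂ (i + 1) _ = Hm φ.τ₂ (i + 1) 0
      rw [← comm_f, hv, map_zero]
      exact (ex₁ h₂ i (i + 1) rfl).apply_apply_eq_zero y)
    obtain ⟨x, rfl⟩ := (ex₁ h₁ i (i + 1) rfl v).mp hfv
    rw [← comm_dl φ h₁ h₂] at hv
    obtain ⟨w, hw⟩ := (ex₃ h₂ i (i + 1) rfl (y - Hm φ.τ₃ i x)).mp (by rw [map_sub, hv, sub_self])
    obtain ⟨u, rfl⟩ := (b₂ i).2 w
    change Hm (ddS hfg).g i (Hm φ.τ₂ i u) = _ at hw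
    rw [comm_g] at hw
    exact ⟨x + Hm (srcS hfg).g i u, by
      change Hm φ.τ₃ i _ = y
      rw [map_add, hw, add_sub_cancel]⟩

omit hI in
/-- retracts -/
theorem bm_retract {M N : Type u} [AddCommGroup M] [Module A M] [AddCommGroup N] [Module A N]
    (s : M →ₗ[A] N) (r : N →ₗ[A] M) (hrs : r.comp s = LinearMap.id) (b : Bm J N) : Bm J M := by
  intro i
  let S := (CochainComplex.singleFunctor (ModuleCat.{u} A) 0).map (ModuleCat.ofHom s)
  let R := (CochainComplex.singleFunctor (ModuleCat.{u} A) 0).map (ModuleCat.ofHom r)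
  have hSR : S ≫ R = 𝟙 _ := by
    rw [← Functor.map_comp, ← CategoryTheory.Functor.map_id]
    exact congrArg _ (ModuleCat.hom_ext hrs)
  refine ⟨(injective_iff_map_eq_zero _).mpr fun x hx => ?_, fun y => ?_⟩
  · have h1 : Hm S i x = 0 := (b i).1 (by
      rw [← Hm_comp, ← Dc.η_natural, Hm_comp, hx, map_zero, map_zero])
    have h2 := congrArg (Hm R i) h1
    rw [← Hm_comp, hSR, map_zero] at h2
    simpa [Hm] using h2
  · obtain ⟨u, hu⟩ := (b i).2 (Hm (Dc.map J (Dc.map J S)) i y)
    refine ⟨Hm R i u, ?_⟩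
    rw [← Hm_comp, ← Dc.η_natural, Hm_comp, hu, ← Hm_comp, ← Dc.map_comp, ← Dc.map_comp, hSR,
      Dc.map_id, Dc.map_id]
    simp [Hm]

theorem bm_free (e : DRing.toD J ≅ Dual.inD A A) : ∀ n : ℕ, Bm J (Fin n → A) := by
  intro n
  induction n with
  | zero =>
    exact bm_retract (M := Fin 0 → A) (N := A) 0 0
      (LinearMap.ext fun x => Subsingleton.elim _ _) (bm_self e)
  | succ n ih =>
    exact fun i => bijective_mid hI (f := LinearMap.single A (fun _ : Fin (n + 1) => A) 0)
      (g := LinearMap.funLeft A A Fin.succ)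
      (fun a b h => by simpa using congrFun h 0)
      (LinearMap.funLeft_surjective_of_injective A A _ (Fin.succ_injective n))
      (fun y => ⟨fun hy => ⟨y 0, funext fun j => by
          refine Fin.cases ?_ (fun k => ?_) j
          · simp
          · simpa [eq_comm] using congrFun hy k⟩, by
        rintro ⟨a, rfl⟩
        funext k
        simp [LinearMap.funLeft_apply]⟩) (bm_self e) ih i

theorem bm_pd (e : DRing.toD J ≅ Dual.inD A A) :
    ∀ (d : ℕ) (M : Type u) [AddCommGroup M] [Module A M] [Module.Finite A M],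
      HasProjectiveDimensionLE (ModuleCat.of A M) d → Bm J M := by
  intro d
  induction d with
  | zero =>
    intro M _ _ _ h
    haveI : Module.Projective A M :=
      (IsProjective.iff_projective (R := A) (P := M)).mpr (projective_iff_hasProjectiveDimensionLT_one.mpr h)
    obtain ⟨n, q, hq⟩ := Module.Finite.exists_fin' A M
    obtain ⟨s, hs⟩ := Module.projective_lifting_property q LinearMap.id hq
    exact bm_retract s q hs (bm_free hI e n)
  | succ d ih =>
    intro M _ _ _ h
    obtain ⟨n, q, hq⟩ := Module.Finite.exists_fin' A M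
    have hS := Devissage.sc_shortExact (LinearMap.ker q).injective_subtype hq
      (LinearMap.exact_subtype_ker_map q)
    haveI : Projective (ModuleCat.of A (Fin n → A)) :=
      (IsProjective.iff_projective (R := A) (Fin n → A)).mp inferInstance
    refine bm_right hI (LinearMap.ker q).injective_subtype hq (LinearMap.exact_subtype_ker_map q)
      (ih _ ?_) (bm_free hI e n)
    exact hS.hasProjectiveDimensionLT_X₁ (d + 1) inferInstance h

omit [IsNoetherianRing A] in
/-- biduality for complexes with bounded finite cohomology -/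
theorem biduality [IsRegularRing A] (e : DRing.toD J ≅ Dual.inD A A) (a : ℤ) (n : ℕ) (X : DRing.Cx A)
    (hv : ∀ j, (j < a ∨ a + n ≤ j) → Subsingleton (X.homology j))
    (hfin : ∀ j, Module.Finite A (X.homology j)) (i : ℤ) : BidualityGen.B J X i :=
  BidualityGen.B_bounded hI (fun M _ _ _ i => by
    obtain ⟨d, hd⟩ := S5165.result A M
    exact bm_pd hI e d M hd i) a n X hv hfin i

end Groth.Agent.DualFinite
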