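import Groth.Agent.DualFinite.Quotient
import Groth.Agent.LocCoh.DepthVanishing
import Groth.Agent.EGA41Lib.Params
import Groth.Agent.GeomFieldLib.CMTensor

/-!
# Dimension bookkeeping for the Cohen–Macaulay case of the finiteness criterion
-/

set_option autoImplicit false
set_option linter.style.haveILetI false
universe u

open IsLocalRing

namespace Groth.Agent.DualFinite

variable {R A : Type u} [CommRing R] [IsRegularRing R] [CommRing A] [IsNoetherianRing A]

/-- Above `p₀` a saturated step raises the height by at most one. -/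
theorem height_Ici_covBy (π : R →+* A) (hπ : Function.Surjective π) {p₀ p q : PrimeSpectrum A}
    (h0 : p₀ ≤ p) (hpq : p ⋖ q) :
    Order.height (⟨q, h0.trans hpq.1.le⟩ : Set.Ici p₀) ≤ Order.height (⟨p, h0⟩ : Set.Ici p₀) + 1 := by
  haveI := GeomFieldLib.isCohenMacaulayRing_of_isRegularRing R
  let φ : PrimeSpectrum A → ℕ := fun x => (PrimeSpectrum.comap π x).asIdeal.height.toNat
  have hinj : ∀ a b : PrimeSpectrum A, PrimeSpectrum.comap π a ≤ PrimeSpectrum.comap π b → a ≤ b :=
    fun a b hab => by
      have := Ideal.map_mono (f := π) hab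
      rwa [PrimeSpectrum.comap_asIdeal, PrimeSpectrum.comap_asIdeal,
        Ideal.map_comap_of_surjective π hπ, Ideal.map_comap_of_surjective π hπ] at this
  have hmono : ∀ {a b : PrimeSpectrum A}, a < b → φ a < φ b := fun {a b} hab => by
    have hlt : PrimeSpectrum.comap π a < PrimeSpectrum.comap π b :=
      ⟨Ideal.comap_mono hab.le, fun h => hab.not_ge (hinj _ _ h)⟩
    have := CMCat.height_strictMono hlt
    simpa [φ] using this
  have hcov : ∀ {a b : PrimeSpectrum A}, a ⋖ b → φ b = φ a + 1 := fun {a b} hab => by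
    have hc : PrimeSpectrum.comap π a ⋖ PrimeSpectrum.comap π b := by
      refine ⟨⟨Ideal.comap_mono hab.1.le, fun h => hab.1.not_ge (hinj _ _ h)⟩, fun c hc hc' => ?_⟩
      obtain ⟨c, rfl⟩ : ∃ c', PrimeSpectrum.comap π c' = c := by
        have : c ∈ Set.range (PrimeSpectrum.comap π) := by
          rw [_root_.range_comap_of_surjective _ π hπ]
          exact fun x hx => hc.le (show π x ∈ a.asIdeal by
            rw [RingHom.mem_ker.mp hx]; exact zero_mem _)
        exact this
      exact hab.2 ⟨hinj _ _ hc.le, fun h => hc.not_ge (Ideal.comap_mono h)⟩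
        ⟨hinj _ _ hc'.le, fun h => hc'.not_ge (Ideal.comap_mono h)⟩
    show ((PrimeSpectrum.comap π b).asIdeal.height).toNat = _
    rw [CMCat.height_covBy_of_cmRing hc,
      ENat.toNat_add (Ideal.height_ne_top (PrimeSpectrum.comap π a).2.ne_top) ENat.one_ne_top]
    rfl
  have upper : ∀ x : Set.Ici p₀, Order.height x ≤ ((φ x.1 - φ p₀ : ℕ) : ℕ∞) := by
    intro x
    refine Order.height_le fun t ht => ?_
    subst ht
    have key : ∀ (k : ℕ) (hk : k < t.length + 1), φ p₀ + k ≤ φ (t ⟨k, hk⟩).1 := by
      intro k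
      induction k with
      | zero =>
        intro hk
        rcases (show p₀ ≤ (t ⟨0, hk⟩).1 from (t ⟨0, hk⟩).2).eq_or_lt with h | h
        · exact le_of_eq (congrArg φ h)
        · exact (hmono h).le
      | succ k ih =>
        intro hk
        have h1 := ih (by omega)
        have h2 := hmono (a := (t ⟨k, by omega⟩).1) (b := (t ⟨k + 1, hk⟩).1)
          (t.strictMono (by simp [Fin.lt_def]))
        omega
    have := key t.length (by omega)
    have e : t.last = t ⟨t.length, by omega⟩ := rfl
    rw [e]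
    exact_mod_cast (show t.length ≤ φ (t ⟨t.length, by omega⟩).1 - φ p₀ by omega)
  have lower : ∀ (n : ℕ) (x : Set.Ici p₀), φ x.1 - φ p₀ = n → (n : ℕ∞) ≤ Order.height x := by
    intro n
    induction n with
    | zero => simp
    | succ n ih =>
      intro x hx
      have hne : p₀ ≠ x.1 := fun h => by rw [← h] at hx; omega
      haveI : WellFoundedGT (PrimeSpectrum A) :=
        ⟨InvImage.wf PrimeSpectrum.asIdeal (wellFounded_gt (α := Ideal A))⟩
      obtain ⟨y, hy⟩ := exists_maximal_of_wellFoundedGT
        (fun y : PrimeSpectrum A => p₀ ≤ y ∧ y < x.1) ⟨p₀, le_rfl, lt_of_le_of_ne x.2 hne⟩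
      obtain ⟨⟨hy0, hyx⟩, hmax⟩ := hy
      have hc : y ⋖ x.1 := ⟨hyx, fun c hc hc' => hc.not_ge (hmax ⟨hy0.trans hc.le, hc'⟩ hc.le)⟩
      have h1 := hcov hc
      have h2 : φ p₀ ≤ φ y := by
        rcases hy0.eq_or_lt with h | h
        · exact le_of_eq (congrArg φ h)
        · exact (hmono h).le
      have := ih ⟨y, hy0⟩ (by show φ y - φ p₀ = n; omega)
      calc ((n + 1 : ℕ) : ℕ∞) = (n : ℕ∞) + 1 := by push_cast; rfl
        _ ≤ Order.height (⟨y, hy0⟩ : Set.Ici p₀) + 1 := add_le_add this le_rfl
        _ ≤ Order.height x := Order.height_add_one_le (show (⟨y, hy0⟩ : Set.Ici p₀) < x from hyx)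
  refine (upper _).trans (le_trans ?_ (add_le_add (lower _ ⟨p, h0⟩ rfl) le_rfl))
  have := hcov hpq
  have : φ q - φ p₀ ≤ φ p - φ p₀ + 1 := by omega
  exact_mod_cast this

/-- The height over a point of the support bounds the dimension of the stalk from below. -/
theorem height_Ici_le_supportDim {A : Type u} [CommRing A] {M : Type u} [AddCommGroup M] [Module A M]
    [Module.Finite A M] {p₀ p : PrimeSpectrum A} (h0 : Module.annihilator A M ≤ p₀.asIdeal) (hle : p₀ ≤ p) :
    (Order.height (⟨p, hle⟩ : Set.Ici p₀) : WithBot ℕ∞) ≤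
      Module.supportDim (Localization.AtPrime p.asIdeal) (LocalizedModule p.asIdeal.primeCompl M) := by
  let B := Localization.AtPrime p.asIdeal
  let N := LocalizedModule p.asIdeal.primeCompl M
  let ψ := IsLocalization.AtPrime.primeSpectrumOrderIso B p.asIdeal
  have hsup : ∀ y : PrimeSpectrum B, p₀ ≤ PrimeSpectrum.comap (algebraMap A B) y →
      y ∈ Module.support B N := by
    intro y hy
    set f := algebraMap A B
    have hmem : PrimeSpectrum.comap f y ∈ Module.support A M :=
      Module.mem_support_iff_of_finite.mpr (h0.trans hy)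
    obtain ⟨m, hm⟩ := Module.mem_support_iff'.mp hmem
    refine Module.mem_support_iff'.mpr ⟨LocalizedModule.mk m 1, fun r hr he => hr ?_⟩
    obtain ⟨a, s, rfl⟩ := IsLocalization.exists_mk'_eq p.asIdeal.primeCompl r
    rw [← Localization.mk_eq_mk', LocalizedModule.mk_smul_mk, ← LocalizedModule.zero_mk 1,
      LocalizedModule.mk_eq] at he
    obtain ⟨t, ht⟩ := he
    simp only [one_smul, smul_zero, Submonoid.smul_def, smul_smul, mul_one] at ht
    have hta : ((t : A) * a) ∈ (PrimeSpectrum.comap f y).asIdeal := by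
      by_contra hn
      exact hm _ hn ht
    have ha : f a ∈ y.asIdeal := by
      have hu : IsUnit (f t) := IsLocalization.map_units _ t
      rw [PrimeSpectrum.comap_asIdeal, Ideal.mem_comap, map_mul] at hta
      exact (Ideal.unit_mul_mem_iff_mem _ hu).mp hta
    rw [IsLocalization.mk'_eq_mul_mk'_one]
    exact Ideal.mul_mem_right _ _ ha
  let g : {x : Set.Ici p₀ // x ≤ ⟨p, hle⟩} → Module.support B N := fun x =>
    ⟨ψ.symm ⟨x.1.1, x.2⟩, hsup _ (by
      have := congrArg Subtype.val (ψ.apply_symm_apply ⟨x.1.1, x.2⟩)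
      exact le_of_le_of_eq x.1.2 this.symm)⟩
  have hg : StrictMono g := fun x y hxy => by
    show ψ.symm _ < ψ.symm _
    exact ψ.symm.strictMono hxy
  refine le_trans (le_of_eq ?_) (Order.krullDim_le_of_strictMono g hg)
  rw [Order.height_eq_krullDim_Iic]
  rfl

end Groth.Agent.DualFinite
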