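import Groth.Agent.DualFinite.Bidual
import Groth.Agent.DualCx.LocCompare
import Groth.Agent.DualCx.LocalDuality
import Groth.Agent.LocCoh.Finiteness

/-!
# `colim_n Hom(A/I^n, D(X)[m])` as a contravariant exact functor on complexes

For the dual `D(X) = Hom•(X, J)` we study `G m X = colim_n Hom(A/I^n, D(X)[m])`: exactness, invariance
under quasi-isomorphisms, suspension, and reduction to the cohomology modules.
-/

set_option autoImplicit false
set_option linter.style.haveILetI false
universe u

open CategoryTheory CategoryTheory.Limits CategoryTheory.Pretriangulated DerivedCategory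

attribute [local instance] HasDerivedCategory.standard

noncomputable section

namespace Groth.Agent.DualFinite

open DualCx DualCx.Biduality
open DualCx.Amplitude (sgl sglIso)
open TorsColim (L)

variable {A : Type u} [CommRing A] (I : Ideal A)

section Triangle

theorem L_isZero {X : Dual.D A} (h : IsZero X) : Subsingleton (L I X) :=
  subsingleton_of_forall_eq 0 fun x => by
    obtain ⟨k, e, rfl⟩ := TorsColim.exists_rep I x
    rw [h.eq_of_tgt e 0, map_zero]

variable {T : Triangle (Dual.D A)} (hT : T ∈ distTriang (Dual.D A))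
include hT

theorem L_mid_finite [IsNoetherianRing A] (m : ℤ) (h₁ : Module.Finite A (L I (T.obj₁⟦m⟧)))
    (h₃ : Module.Finite A (L I (T.obj₃⟦m⟧))) : Module.Finite A (L I (T.obj₂⟦m⟧)) := by
  let T' := (Triangle.shiftFunctor (Dual.D A) m).obj T
  have hT' : T' ∈ distTriang (Dual.D A) := Triangle.shift_distinguished T hT m
  have : Module.Finite A (L I T'.obj₁) := h₁
  have : Module.Finite A (L I T'.obj₃) := h₃
  have h := isNoetherian_of_range_eq_ker (TorsColim.map I T'.mor₁) (TorsColim.map I T'.mor₂)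
    (TorsColim.exact I hT').linearMap_ker_eq.symm
  exact (inferInstance : Module.Finite A (L I T'.obj₂))

theorem L_mid_subsingleton (m : ℤ) (h₁ : Subsingleton (L I (T.obj₁⟦m⟧)))
    (h₃ : Subsingleton (L I (T.obj₃⟦m⟧))) : Subsingleton (L I (T.obj₂⟦m⟧)) := by
  let T' := (Triangle.shiftFunctor (Dual.D A) m).obj T
  have hT' : T' ∈ distTriang (Dual.D A) := Triangle.shift_distinguished T hT m
  refine subsingleton_of_forall_eq 0 fun (x : L I T'.obj₂) => ?_
  obtain ⟨y, rfl⟩ := (TorsColim.exact I hT' x).mp (h₃.elim _ _)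
  rw [show y = 0 from h₁.elim _ _]
  exact map_zero _

end Triangle

variable (J : DRing.Cx A)

/-- `colim_n Hom(A/I^n, D(X)[m])` -/
abbrev G (m : ℤ) (X : DRing.Cx A) : ModuleCat.{u + 1} A := L I ((DRing.toD (Dc.D J X))⟦m⟧)

variable [J.IsKInjective]

theorem isIso_Q_map_dual {X Y : DRing.Cx A} (f : X ⟶ Y) [QuasiIso f] :
    IsIso (DerivedCategory.Q.map (Dc.map J f)) :=
  (DerivedCategory.isIso_Q_map_iff_quasiIso (C := ModuleCat.{u} A) _).mpr (Dc.quasiIso_map J f)

/-- quasi-isomorphisms -/
def GQis {X Y : DRing.Cx A} (f : X ⟶ Y) [QuasiIso f] (m : ℤ) : G I J m Y ≃ₗ[A] G I J m X :=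
  have := isIso_Q_map_dual J f
  TorsColim.congr I ((shiftFunctor (Dual.D A) m).mapIso (asIso (DerivedCategory.Q.map (Dc.map J f))))

theorem nonempty_G_iso {X Y : DRing.Cx A} (e : DRing.toD X ≅ DRing.toD Y) (m : ℤ) :
    Nonempty (G I J m X ≃ₗ[A] G I J m Y) := by
  obtain ⟨W, _, -, ⟨eW⟩⟩ := DRing.DBasic.exists_kproj_iso (DRing.toD X)
  obtain ⟨f, hf⟩ := DRing.DBasic.exists_Q_map_eq eW.hom
  obtain ⟨g, hg⟩ := DRing.DBasic.exists_Q_map_eq (eW ≪≫ e).hom
  have : QuasiIso f := (DerivedCategory.isIso_Q_map_iff_quasiIso (C := ModuleCat.{u} A) f).1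
    (by rw [hf]; infer_instance)
  have : QuasiIso g := (DerivedCategory.isIso_Q_map_iff_quasiIso (C := ModuleCat.{u} A) g).1
    (by rw [hg]; infer_instance)
  exact ⟨(GQis I J f m).trans (GQis I J g m).symm⟩

theorem isZero_dual_of_acyclic {X : DRing.Cx A} (hX : ∀ j, Subsingleton (X.homology j)) :
    IsZero (DRing.toD (Dc.D J X)) :=
  DRing.Devissage.isZero_of_subsingleton_HD fun q => by
    have hz : IsZero (DRing.toD X) := DRing.Devissage.isZero_of_subsingleton_HD fun q => by
      have := hX q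
      exact (DRing.DBasic.hIso X q).toLinearEquiv.toEquiv.subsingleton
    have : Subsingleton (DRing.toD X ⟶ (DRing.toD J)⟦q⟧) := ⟨hz.eq_of_src⟩
    exact ((DRing.DBasic.hIso _ q).toLinearEquiv.trans (Dc.hEquiv J X q).symm).toEquiv.subsingleton

theorem subsingleton_G_of_acyclic {X : DRing.Cx A} (hX : ∀ j, Subsingleton (X.homology j)) (m : ℤ) :
    Subsingleton (G I J m X) :=
  L_isZero I ((shiftFunctor (Dual.D A) m).map_isZero (isZero_dual_of_acyclic J hX))

variable (hJ : ∀ q, Injective (J.X q))
include hJ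

section Five

variable {S : ShortComplex (DRing.Cx A)} (hS : S.ShortExact)
include hS

omit [J.IsKInjective] in
theorem finite_mid [IsNoetherianRing A] (m : ℤ) (h₁ : Module.Finite A (G I J m S.X₁))
    (h₃ : Module.Finite A (G I J m S.X₃)) : Module.Finite A (G I J m S.X₂) :=
  L_mid_finite I (DerivedCategory.triangleOfSES_distinguished (Dc.shortExact J hS hJ)) m h₃ h₁

omit [J.IsKInjective] in
theorem subsingleton_mid (m : ℤ) (h₁ : Subsingleton (G I J m S.X₁))
    (h₃ : Subsingleton (G I J m S.X₃)) : Subsingleton (G I J m S.X₂) :=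
  L_mid_subsingleton I (DerivedCategory.triangleOfSES_distinguished (Dc.shortExact J hS hJ)) m h₃ h₁

omit [J.IsKInjective] in
/-- if the quotient contributes nothing, restriction to the subobject is injective -/
theorem injective_map_f (m : ℤ) (h₃ : Subsingleton (G I J m S.X₃)) :
    Function.Injective
      (TorsColim.map I ((DerivedCategory.Q.map (Dc.map J S.f))⟦m⟧') : G I J m S.X₂ → G I J m S.X₁) := by
  let T := DerivedCategory.triangleOfSES (Dc.shortExact J hS hJ)
  let T' := (Triangle.shiftFunctor (Dual.D A) m).obj T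
  have hT' : T' ∈ distTriang (Dual.D A) :=
    Triangle.shift_distinguished T (DerivedCategory.triangleOfSES_distinguished _) m
  refine (injective_iff_map_eq_zero _).mpr fun x hx => ?_
  have h2 : TorsColim.map I T'.mor₂ x = 0 := by
    obtain ⟨k, e, rfl⟩ := TorsColim.exists_rep I x
    rw [TorsColim.map_ι] at hx
    erw [TorsColim.map_ι]
    refine Eq.trans (congrArg _ (?_ : e ≫ T'.mor₂ = m.negOnePow • (e ≫ (DerivedCategory.Q.map (Dc.map J S.f))⟦m⟧'))) ?_
    · exact Preadditive.comp_zsmul _ _ _
    · change TorsColim.ι I k _ ((m.negOnePow : ℤ) • _) = 0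
      rw [map_zsmul]
      exact (congrArg _ hx).trans (smul_zero _)
  obtain ⟨y, rfl⟩ := (TorsColim.exact I hT' x).mp h2
  rw [show y = 0 from h₃.elim _ _]
  exact map_zero _

end Five

/-- suspension -/
theorem exists_suspension (X : DRing.Cx A) :
    ∃ Y : DRing.Cx A, (∀ m : ℤ, Nonempty (G I J m X ≃ₗ[A] G I J (m + 1) Y)) ∧
      ∀ i, Nonempty (Y.homology i ≃ₗ[A] X.homology (i + 1)) := by
  let g : X ⟶ CochainComplex.mappingCone (𝟙 X) := CochainComplex.mappingCone.inr (𝟙 X)
  have hg : ∀ i, Mono (g.f i) := fun i =>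
    mono_of_mono_fac (CochainComplex.mappingCone.inr_f_snd_v (𝟙 X) i)
  have : Mono g := HomologicalComplex.mono_of_mono_f g hg
  let S : ShortComplex (DRing.Cx A) := ShortComplex.mk g (cokernel.π g) (cokernel.condition g)
  have hS : S.ShortExact := { exact := ShortComplex.exact_of_g_is_cokernel S (cokernelIsCokernel g) }
  have hz : IsZero (DRing.toD (CochainComplex.mappingCone (𝟙 X))) := by
    refine Pretriangulated.Triangle.isZero₃_of_isIso₁ (DerivedCategory.Q.mapTriangle.obj
      (CochainComplex.mappingCone.triangle (𝟙 X)))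
      ((DerivedCategory.mem_distTriang_iff _).mpr ⟨_, _, 𝟙 X, ⟨Iso.refl _⟩⟩) ?_
    change IsIso (DerivedCategory.Q.map (𝟙 X))
    infer_instance
  have hC : ∀ j, Subsingleton (S.X₂.homology j) := fun j =>
    ModuleCat.subsingleton_of_isZero (((DRing.DBasic.HF j).map_isZero hz).of_iso (DRing.DBasic.hIso _ j).symm)
  refine ⟨S.X₃, fun m => ?_, fun i => ⟨LinearEquiv.ofBijective (dl hS i (i + 1) rfl) ⟨?_, ?_⟩⟩⟩
  · let T := DerivedCategory.triangleOfSES (Dc.shortExact J hS hJ)
    have hT : T ∈ distTriang (Dual.D A) := DerivedCategory.triangleOfSES_distinguished _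
    have : IsIso T.mor₃ := (T.isZero₂_iff_isIso₃ hT).mp (isZero_dual_of_acyclic J hC)
    exact ⟨TorsColim.congr I ((shiftFunctor (Dual.D A) m).mapIso (@asIso _ _ _ _ T.mor₃ this) ≪≫
      ((shiftFunctorAdd' (Dual.D A) (1 : ℤ) m (m + 1) (by omega)).app _).symm)⟩
  · refine (injective_iff_map_eq_zero _).mpr fun q hq => ?_
    obtain ⟨k, rfl⟩ := (ex₃ hS i (i + 1) rfl q).mp hq
    rw [(hC i).elim k 0, map_zero]
  · exact fun y => (ex₁ hS i (i + 1) rfl y).mp ((hC (i + 1)).elim _ _)

theorem nonempty_G_single : ∀ (k : ℕ) (X : DRing.Cx A) (n : ℤ), n.natAbs = k →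
    (∀ j, j ≠ n → Subsingleton (X.homology j)) → ∀ (E : Type u) [AddCommGroup E] [Module A E],
    (X.homology n ≃ₗ[A] E) → ∀ m : ℤ,
      Nonempty (G I J m X ≃ₗ[A] G I J (m + n) (sgl (ModuleCat.of A E))) := by
  intro k
  induction k with
  | zero =>
    intro X n hn hX E _ _ e m
    obtain rfl : n = 0 := by omega
    obtain ⟨i⟩ := BidualityGen.nonempty_iso_single (Y := sgl (ModuleCat.of A E)) 0 hX
      (fun j hj => exists_rep_sgl _ j hj) (e.trans (sglH0 (ModuleCat.of A E)).symm)
    rw [add_zero]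
    exact nonempty_G_iso I J i m
  | succ k ih =>
    intro X n hn hX E _ _ e m
    rcases Nat.lt_or_ge 0 n.toNat with hpos | hneg
    · obtain ⟨Y, hY, hH⟩ := exists_suspension I J hJ X
      obtain ⟨eY⟩ := hH (n - 1)
      obtain ⟨e'⟩ : Nonempty (X.homology (n - 1 + 1) ≃ₗ[A] E) := by
        rw [show n - 1 + 1 = n by omega]; exact ⟨e⟩
      obtain ⟨a⟩ := hY m
      obtain ⟨b⟩ := ih Y (n - 1) (by omega) (fun j hj => by
        obtain ⟨ej⟩ := hH j
        have := hX (j + 1) (by omega)
        exact ej.toEquiv.subsingleton) E (eY.trans e') (m + 1)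
      rw [show m + 1 + (n - 1) = m + n by omega] at b
      exact ⟨a.trans b⟩
    · let Z : DRing.Cx A := (HomologicalComplex.single (ModuleCat.{u} A) (ComplexShape.up ℤ) (n + 1)).obj (X.homology n)
      let z := (HomologicalComplex.singleObjHomologySelfIso (ComplexShape.up ℤ) (n + 1) (X.homology n)).toLinearEquiv
      have hZ : ∀ j, j ≠ n + 1 → Subsingleton (Z.homology j) := fun j hj =>
        ModuleCat.subsingleton_of_isZero
          (HomologicalComplex.isZero_single_obj_homology (ComplexShape.up ℤ) (n + 1) (X.homology n) j hj)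
      obtain ⟨Y, hY, hH⟩ := exists_suspension I J hJ Z
      obtain ⟨eh⟩ := hH n
      obtain ⟨d⟩ := BidualityGen.nonempty_iso_single n (fun j hj => by
          obtain ⟨e'⟩ := hH j
          have := hZ (j + 1) (by omega)
          exact e'.toEquiv.subsingleton) hX (eh.trans z)
      obtain ⟨a⟩ := nonempty_G_iso I J d m
      obtain ⟨b⟩ := hY (m - 1)
      obtain ⟨c⟩ := ih Z (n + 1) (by omega) hZ E (z.trans e) (m - 1)
      rw [show m - 1 + 1 = m by omega] at b
      rw [show m - 1 + (n + 1) = m + n by omega] at c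
      exact ⟨(a.symm.trans b.symm).trans c⟩

/-- reduction to the cohomology modules -/
theorem finite_of_cohomology [IsNoetherianRing A] (m a : ℤ) : ∀ (n : ℕ) (X : DRing.Cx A),
    (∀ j, (j < a ∨ a + n ≤ j) → Subsingleton (X.homology j)) →
    (∀ j, a ≤ j → j < a + n → ∀ (E : Type u) [AddCommGroup E] [Module A E],
      (X.homology j ≃ₗ[A] E) → Module.Finite A (G I J (m + j) (sgl (ModuleCat.of A E)))) →
    Module.Finite A (G I J m X) := by
  intro n
  induction n with
  | zero =>
    intro X hX _
    have := subsingleton_G_of_acyclic I J (fun j => hX j (by omega)) m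
    infer_instance
  | succ n ih =>
    intro X hX hfin
    obtain ⟨S, hS, rfl, h1, h3, hf, hg⟩ := BidualityGen.exists_trunc X (a + n - 1)
    have hX1 : Module.Finite A (G I J m S.X₁) := ih S.X₁ (fun j hj => by
      by_cases hjq : a + n - 1 < j
      · exact h1 j hjq
      · have := hX j (by omega)
        exact (Equiv.ofBijective _ (hf j (by omega))).subsingleton) fun j hj hj' E _ _ e =>
      hfin j hj (by omega) E ((LinearEquiv.ofBijective _ (hf j (by omega))).symm.trans e)
    have hX3 : Module.Finite A (G I J m S.X₃) := by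
      obtain ⟨e⟩ := nonempty_G_single I J hJ _ S.X₃ (a + n) rfl (fun j hj => by
        by_cases hjq : a + n - 1 < j
        · have := hX j (by omega)
          exact (Equiv.ofBijective _ (hg j hjq)).symm.subsingleton
        · exact h3 j (by omega)) (S.X₃.homology (a + n)) (LinearEquiv.refl _ _) m
      have := hfin (a + n) (by omega) (by omega) (S.X₃.homology (a + n))
        (LinearEquiv.ofBijective _ (hg (a + n) (by omega)))
      exact Module.Finite.equiv e.symm
    exact finite_mid I J hJ hS m hX1 hX3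

end Groth.Agent.DualFinite
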