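import Groth.Agent.DualFinite.Modules
import Groth.Agent.LocCoh.AdjDepth

/-!
# Finiteness of local cohomology over a regular ring by duality

For a regular ring `R` and a finite module `M`, `H^i_I(M)` is finite if `H^{i-1}` of `M_P` vanishes
for all primes `P ⊉ I` covered by a prime containing `I`.
-/

set_option autoImplicit false
set_option linter.style.haveILetI false
universe u

open CategoryTheory CategoryTheory.Limits

attribute [local instance] HasDerivedCategory.standard

noncomputable section

namespace Groth.Agent.DualFinite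

open DualCx DualCx.Biduality
open DualCx.Amplitude (sgl sglIso)
open TorsColim (L)

variable {A : Type u} [CommRing A] [IsRegularRing A] {J : DRing.Cx A} [J.IsKInjective]
  (e : DRing.toD J ≅ Dual.inD A A)

omit [J.IsKInjective] in
theorem wellFoundedGT_spec : WellFoundedGT (PrimeSpectrum A) :=
  ⟨InvImage.wf PrimeSpectrum.asIdeal (wellFounded_gt (α := Ideal A))⟩

theorem exists_height_eq (P : PrimeSpectrum A) (m : ℕ) (hP : P.asIdeal.height ≤ m) (q : PrimeSpectrum A)
    (hPq : P ≤ q) (hq : (m : ℕ∞) ≤ q.asIdeal.height) :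
    ∃ q', P ≤ q' ∧ q'.asIdeal.height = m := by
  obtain ⟨x, hx⟩ := exists_minimalFor_of_wellFoundedLT
    (fun q' : PrimeSpectrum A => P ≤ q' ∧ (m : ℕ∞) ≤ q'.asIdeal.height) (fun q' => q'.asIdeal.height)
    ⟨q, hPq, hq⟩
  obtain ⟨⟨hPx, hmx⟩, hmin⟩ := hx
  refine ⟨x, hPx, le_antisymm ?_ hmx⟩
  by_contra hlt
  have hne : P ≠ x := fun h => hlt (h ▸ hP)
  haveI := wellFoundedGT_spec (A := A)
  obtain ⟨Q, hQ⟩ := exists_maximal_of_wellFoundedGT
    (fun Q : PrimeSpectrum A => P ≤ Q ∧ Q < x) ⟨P, le_rfl, lt_of_le_of_ne hPx hne⟩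
  obtain ⟨⟨hPQ, hQx⟩, hmax⟩ := hQ
  have hcov : Q ⋖ x := ⟨hQx, fun c hc hc' => hc.not_ge (hmax ⟨hPQ.trans hc.le, hc'⟩ hc.le)⟩
  have := Gor.Ring.isGorensteinRing_of_isRegularRing A
  haveI := this.isGorensteinLocalRing_localization x.asIdeal
  have hcm : _root_.LocCoh.IsCohenMacaulayModule (Localization.AtPrime x.asIdeal)
      (LocalizedModule x.asIdeal.primeCompl A) := by
    rw [Depth.isCohenMacaulayModule_congr (Depth.localizedModuleSelfEquiv x.asIdeal.primeCompl)]
    exact (Depth.isCohenMacaulayLocalRing_iff (R := Localization.AtPrime x.asIdeal)).mp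
      (Gor.Basic.isCohenMacaulay_of_gorenstein (A := Localization.AtPrime x.asIdeal))
  have hsupp : Module.support A A = Set.univ := by
    refine Set.eq_univ_of_forall fun Q => ?_
    rw [Module.mem_support_iff_of_finite, Module.annihilator_eq_bot.2 inferInstance]
    exact bot_le
  have hht := CMCat.height_covBy_of_cm (M := A) hcov hcm hsupp
  rw [hht] at hlt
  have hmQ : (m : ℕ∞) ≤ Q.asIdeal.height := Order.le_of_lt_add_one (not_le.mp hlt)
  have := hmin (j := Q) ⟨hPQ, hmQ⟩ (by dsimp only; rw [hht]; exact le_self_add)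
  dsimp only at this
  rw [hht] at this
  exact (ENat.lt_add_one_iff (Ideal.height_ne_top Q.2.ne_top)).mpr le_rfl |>.not_ge this

/-- local vanishing of `Ext^m(R/P, R)` off height `m` -/
theorem subsingleton_ext_quotient_atPrime (P q : Ideal A) [P.IsPrime] [q.IsPrime] (hPq : P ≤ q) (m : ℕ)
    (h : (m : ℕ∞) < P.height ∨ q.height < m) :
    Subsingleton (Abelian.Ext.{u} (ModuleCat.of (Localization.AtPrime q) (LocalizedModule q.primeCompl (A ⧸ P)))
      (ModuleCat.of (Localization.AtPrime q) (Localization.AtPrime q)) m) := by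
  let B := Localization.AtPrime q
  haveI := (Gor.Ring.isGorensteinRing_of_isRegularRing A).isGorensteinLocalRing_localization q
  obtain ⟨d, hd⟩ := Gor.Basic.exists_natCast_ringKrullDim (A := B)
  have hdq : (q.height : WithBot ℕ∞) = d := by rw [← IsLocalization.AtPrime.ringKrullDim_eq_height q B, hd]
  rcases h with h | h
  · let p := P.map (algebraMap A B)
    have hdisj : Disjoint (q.primeCompl : Set A) P := Set.disjoint_left.mpr fun a ha hap => ha (hPq hap)
    haveI : p.IsPrime := IsLocalization.isPrime_of_isPrime_disjoint q.primeCompl B _ inferInstance hdisj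
    have hhp : p.height = P.height := by
      rw [← IsLocalization.height_under q.primeCompl p,
        show p.under A = P from IsLocalization.comap_map_of_isPrime_disjoint q.primeCompl B inferInstance hdisj]
    have hann : p ≤ Module.annihilator B (LocalizedModule q.primeCompl (A ⧸ P)) := by
      refine Ideal.map_le_iff_le_comap.mpr fun a ha => Module.mem_annihilator.mpr fun y => ?_
      induction y using LocalizedModule.induction_on with
      | _ x s =>
        rw [algebraMap_smul, LocalizedModule.smul'_mk]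
        obtain ⟨b, rfl⟩ := Submodule.Quotient.mk_surjective _ x
        rw [← Submodule.Quotient.mk_smul, smul_eq_mul, (Submodule.Quotient.mk_eq_zero P).mpr
          (Ideal.mul_mem_right b P ha)]
        exact LocalizedModule.zero_mk s
    have hs : Module.supportDim B (LocalizedModule q.primeCompl (A ⧸ P)) ≤ ringKrullDim (B ⧸ p) := by
      rw [Module.supportDim_eq_ringKrullDim_quotient_annihilator]
      exact ringKrullDim_le_of_surjective (Ideal.Quotient.factor hann) (Ideal.Quotient.factor_surjective hann)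
    have hcm : _root_.LocCoh.IsCohenMacaulayModule B B :=
      (Depth.isCohenMacaulayLocalRing_iff (R := B)).mp (Gor.Basic.isCohenMacaulay_of_gorenstein (A := B))
    have hsupp : Module.support B B = Set.univ := by
      refine Set.eq_univ_of_forall fun Q => ?_
      rw [Module.mem_support_iff_of_finite, Module.annihilator_eq_bot.2 inferInstance]
      exact bot_le
    have hdim := CMCat.ringKrullDim_eq_quotient_add_height hcm hsupp p
    refine GorNormal.subsingleton_ext (d := d) hd _ (m + 1) ?_ m (Nat.lt_succ_self m)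
    rw [hdim, hhp]
    refine add_le_add hs (WithBot.coe_le_coe.mpr ?_)
    exact Order.add_one_le_of_lt h
  · haveI : IsRegularLocalRing B := inferInstance
    have := S0563.result B d hd (LocalizedModule q.primeCompl (A ⧸ P))
    refine HasProjectiveDimensionLT.subsingleton.{u} _ (d + 1) m ?_ _
    have : (d : ℕ∞) < m := by
      rw [show q.height = (d : ℕ∞) from WithBot.coe_injective hdq] at h
      exact h
    exact_mod_cast this

include e in
/-- `Ext^m(R/P, R) = 0` when no prime containing `P` has height `m` -/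
theorem subsingleton_ext_quotient (P : Ideal A) [P.IsPrime] (m : ℕ)
    (h : ∀ q : Ideal A, q.IsPrime → P ≤ q → q.height ≠ m) :
    Subsingleton (Abelian.Ext.{u} (ModuleCat.of A (A ⧸ P)) (ModuleCat.of A A) m) := by
  refine subsingleton_of_forall_eq 0 fun x => ?_
  by_contra hx
  have hne : LinearMap.ker (LinearMap.toSpanSingleton A _ x) ≠ ⊤ := fun ht => hx (by
    have : (1 : A) ∈ LinearMap.ker (LinearMap.toSpanSingleton A _ x) := ht ▸ Submodule.mem_top
    simpa using this)
  obtain ⟨q, hq, hle⟩ := Ideal.exists_le_maximal _ hne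
  suffices hs : ∃ s : q.primeCompl, (s : A) • x = 0 by
    obtain ⟨s, hs⟩ := hs
    exact s.2 (hle (by simpa using hs))
  by_cases hPq : P ≤ q
  · refine (DualShiftPrime.subsingleton_ext_atPrime_iff A (A ⧸ P) q m).mp ?_ x
    refine subsingleton_ext_quotient_atPrime P q hPq m ?_
    by_contra hc
    push Not at hc
    obtain ⟨q', hPq', hh⟩ := exists_height_eq ⟨P, inferInstance⟩ m hc.1 ⟨q, hq.isPrime⟩ hPq hc.2
    exact h q'.asIdeal q'.2 hPq' hh
  · obtain ⟨s, hsP, hsq⟩ := SetLike.not_le_iff_exists.mp hPq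
    refine ⟨⟨s, hsq⟩, (homExt e (A ⧸ P) m).symm.injective ?_⟩
    rw [map_smul, map_zero]
    refine smul_dual_eq_zero (A ⧸ P) (fun y => ?_) m _
    obtain ⟨b, rfl⟩ := Submodule.Quotient.mk_surjective _ y
    rw [← Submodule.Quotient.mk_smul]
    exact (Submodule.Quotient.mk_eq_zero P).mpr (Ideal.mul_mem_right b P hsP)

variable (I : Ideal A) (hJ : ∀ q, Injective (J.X q))
include e hJ

/-- the prime quotients not killed by `I` -/
theorem subsingleton_G_prime (m : ℕ) : ∀ (P : Ideal A) [P.IsPrime],
    (∀ q : Ideal A, q.IsPrime → P ≤ q → I ≤ q → q.height ≠ m) →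
      Subsingleton (G I J (m : ℤ) (sgl (ModuleCat.of A (A ⧸ P)))) := by
  intro P
  induction P using IsNoetherian.induction with
  | _ P ih =>
    intro _ hP
    by_cases hIP : I ≤ P
    · have hk : ∀ a ∈ I ^ 1, ∀ x : A ⧸ P, a • x = 0 := fun a ha x => by
        obtain ⟨b, rfl⟩ := Submodule.Quotient.mk_surjective _ x
        rw [← Submodule.Quotient.mk_smul]
        exact (Submodule.Quotient.mk_eq_zero P).mpr (Ideal.mul_mem_right b P (hIP (by simpa using ha)))
      refine (finite_G_torsion e I (A ⧸ P) hk (m : ℤ)).2 ?_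
      have := subsingleton_ext_quotient e P m fun q hq hPq => hP q hq hPq (hIP.trans hPq)
      exact (homExt e (A ⧸ P) m).toEquiv.subsingleton
    obtain ⟨x, hxI, hxP⟩ := SetLike.not_le_iff_exists.mp hIP
    have hinj : Function.Injective (x • LinearMap.id : (A ⧸ P) →ₗ[A] A ⧸ P) := by
      refine (injective_iff_map_eq_zero _).mpr fun y hy => ?_
      obtain ⟨b, rfl⟩ := Submodule.Quotient.mk_surjective _ y
      change x • Submodule.Quotient.mk (p := P) b = 0 at hy
      rw [← Submodule.Quotient.mk_smul, Submodule.Quotient.mk_eq_zero] at hy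
      exact (Submodule.Quotient.mk_eq_zero P).mpr ((Ideal.IsPrime.mem_or_mem ‹_› hy).resolve_left hxP)
    refine subsingleton_G_of_regular I hJ (A ⧸ P) hxI hinj (m : ℤ) ?_
    -- dévissage of the quotient
    suffices key : ∀ (N : Type u) [AddCommGroup N] [Module A N] [Module.Finite A N],
        (∀ r ∈ P, ∀ y : N, r • y = 0) → (∀ y : N, x • y = 0) →
          Subsingleton (G I J (m : ℤ) (sgl (ModuleCat.of A N))) by
      refine key _ (fun r hr y => ?_) (fun y => ?_)
      · obtain ⟨z, rfl⟩ := Submodule.Quotient.mk_surjective _ y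
        obtain ⟨b, rfl⟩ := Submodule.Quotient.mk_surjective _ z
        rw [← Submodule.Quotient.mk_smul, ← Submodule.Quotient.mk_smul, smul_eq_mul,
          (Submodule.Quotient.mk_eq_zero P).mpr (Ideal.mul_mem_right b P hr), Submodule.Quotient.mk_zero]
      · obtain ⟨z, rfl⟩ := Submodule.Quotient.mk_surjective _ y
        rw [← Submodule.Quotient.mk_smul, Submodule.Quotient.mk_eq_zero]
        exact ⟨z, rfl⟩
    intro N _ _ _
    induction ‹Module.Finite A N› using IsNoetherianRing.induction_on_isQuotientEquivQuotientPrime A with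
    | subsingleton N =>
      intro _ _
      exact subsingleton_G_of_acyclic I J (fun j => by
        by_cases hj : j = 0
        · subst hj
          exact (sglH0 (ModuleCat.of A N)).toEquiv.subsingleton
        · exact exists_rep_sgl _ j hj) _
    | quotient N Q eN =>
      intro h1 h2
      have hmem : ∀ r : A, (∀ y : N, r • y = 0) → r ∈ Q.1 := fun r hr => by
        rw [← Ideal.annihilator_quotient (I := Q.1), ← LinearEquiv.annihilator_eq eN]
        exact Module.mem_annihilator.mpr hr
      have hlt : P < Q.1 := lt_of_le_of_ne (fun r hr => hmem r (h1 r hr))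
        fun hPQ => hxP (hPQ ▸ hmem x h2)
      have := ih Q.1 hlt fun q hq hQq hIq => hP q hq (hlt.le.trans hQq) hIq
      obtain ⟨ee⟩ := nonempty_G_iso I J (DerivedCategory.Q.mapIso
        ((CochainComplex.singleFunctor (ModuleCat.{u} A) 0).mapIso eN.toModuleIso)) (m : ℤ)
      exact ee.toEquiv.subsingleton
    | exact N₁ N₂ N₃ f g hf hg hfg r₁ r₃ =>
      intro h1 h2
      refine subsingleton_G_mid I hJ hf hg hfg _ (r₁ (fun r hr y => hf ?_) fun y => hf ?_)
        (r₃ (fun r hr y => ?_) fun y => ?_)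
      · rw [map_smul, map_zero, h1 r hr]
      · rw [map_smul, map_zero, h2]
      · obtain ⟨z, rfl⟩ := hg y
        rw [← map_smul, h1 r hr, map_zero]
      · obtain ⟨z, rfl⟩ := hg y
        rw [← map_smul, h2, map_zero]

/-- finite modules -/
theorem finite_G_module (m : ℕ) (N : Type u) [AddCommGroup N] [Module A N] [Module.Finite A N] :
    (∀ P : Ideal A, P.IsPrime → Module.annihilator A N ≤ P → ¬ I ≤ P →
      ∀ q : Ideal A, q.IsPrime → P ≤ q → I ≤ q → q.height ≠ m) →
      Module.Finite A (G I J (m : ℤ) (sgl (ModuleCat.of A N))) := by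
  induction ‹Module.Finite A N› using IsNoetherianRing.induction_on_isQuotientEquivQuotientPrime A with
  | subsingleton N =>
    intro _
    have := subsingleton_G_of_acyclic I J (X := sgl (ModuleCat.of A N)) (fun j => by
      by_cases hj : j = 0
      · subst hj
        exact (sglH0 (ModuleCat.of A N)).toEquiv.subsingleton
      · exact exists_rep_sgl _ j hj) (m : ℤ)
    infer_instance
  | quotient N Q eN =>
    intro h
    obtain ⟨ee⟩ := nonempty_G_iso I J (DerivedCategory.Q.mapIso
      ((CochainComplex.singleFunctor (ModuleCat.{u} A) 0).mapIso eN.toModuleIso)) (m : ℤ)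
    by_cases hIQ : I ≤ Q.1
    · have := (finite_G_torsion e I (A ⧸ Q.1) (k := 1) (fun a ha x => by
        obtain ⟨b, rfl⟩ := Submodule.Quotient.mk_surjective _ x
        rw [← Submodule.Quotient.mk_smul]
        exact (Submodule.Quotient.mk_eq_zero Q.1).mpr
          (Ideal.mul_mem_right b Q.1 (hIQ (by simpa using ha)))) (m : ℤ)).1
      exact Module.Finite.equiv ee.symm
    · have := subsingleton_G_prime e I hJ m Q.1 (h Q.1 Q.2
        (le_of_eq (by rw [LinearEquiv.annihilator_eq eN, Ideal.annihilator_quotient])) hIQ)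
      have := ee.toEquiv.subsingleton
      infer_instance
  | exact N₁ N₂ N₃ f g hf hg hfg r₁ r₃ =>
    intro h
    exact finite_G_mid I hJ hf hg hfg _
      (r₁ fun P hP hle => h P hP ((f.annihilator_le_of_injective hf).trans hle))
      (r₃ fun P hP hle => h P hP ((g.annihilator_le_of_surjective hg).trans hle))

omit e hJ [J.IsKInjective] in
/-- a prime covered by `q` avoiding `I` -/
theorem exists_covBy {P q : PrimeSpectrum A} (hPq : P ≤ q) (hP : ¬ I ≤ P.asIdeal) (hq : I ≤ q.asIdeal) :
    ∃ P' : PrimeSpectrum A, P ≤ P' ∧ P' ⋖ q ∧ ¬ I ≤ P'.asIdeal := by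
  obtain ⟨y, hyI, hyP⟩ := SetLike.not_le_iff_exists.mp hP
  have hlt : P < q := lt_of_le_of_ne hPq fun h => hP (h ▸ hq)
  haveI := wellFoundedGT_spec (A := A)
  obtain ⟨P', hP'⟩ := exists_maximal_of_wellFoundedGT
    (fun Q : PrimeSpectrum A => P ≤ Q ∧ Q < q ∧ y ∉ Q.asIdeal) ⟨P, le_rfl, hlt, hyP⟩
  obtain ⟨⟨hPP', hP'q, hyP'⟩, hmax⟩ := hP'
  refine ⟨P', hPP', ⟨hP'q, fun c hc hc' => ?_⟩, fun h => hyP' (h hyI)⟩
  by_cases hone : (q.asIdeal.map (Ideal.Quotient.mk P'.asIdeal)).height ≤ 1
  · have := LocCoh.AdjDepth.eq_of_height_le_one (P := c.asIdeal) hone hc hc'.le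
    exact hc'.ne (PrimeSpectrum.ext this)
  · obtain ⟨t, ht, hst, htq, hyt⟩ :=
      LocCoh.AdjDepth.exists_between (s := P'.asIdeal) (q := q.asIdeal) hP'q (not_le.mp hone) (hq hyI) hyP'
    exact hst.not_ge (hmax (y := ⟨t, ht⟩) ⟨hPP'.trans hst.le, htq, hyt⟩ hst.le)

omit e hJ J [J.IsKInjective] in
/-- **Finiteness.** -/
theorem finite_H (M : Type u) [AddCommGroup M] [Module A M] [Module.Finite A M] (i : ℕ)
    (h : ∀ P q : PrimeSpectrum A, ¬ I ≤ P.asIdeal → I ≤ q.asIdeal → P ⋖ q → ∀ j : ℕ, j + 1 = i →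
      Subsingleton (_root_.LocCoh.H (IsLocalRing.maximalIdeal (Localization.AtPrime P.asIdeal)) j
        (LocalizedModule P.asIdeal.primeCompl M))) :
    Module.Finite A (_root_.LocCoh.H I i M) := by
  cases i with
  | zero => exact LocCoh.finite_H_zero (I := I) (ModuleCat.of A M)
  | succ i =>
  obtain ⟨J, _, hJ, -, ⟨e⟩⟩ := exists_injModel (A := A)
  let X := Dc.D J (sgl (ModuleCat.of A M))
  have hη : QuasiIso (Dc.η J (sgl (ModuleCat.of A M))) := by
    rw [quasiIso_iff]
    intro n
    rw [quasiIsoAt_iff_isIso_homologyMap, ConcreteCategory.isIso_iff_bijective]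
    exact biduality hJ e 0 1 (sgl (ModuleCat.of A M))
      (fun j hj => exists_rep_sgl _ j (by omega)) (fun j => finite_sgl _ j) n
  have : IsIso (DerivedCategory.Q.map (Dc.η J (sgl (ModuleCat.of A M)))) :=
    (DerivedCategory.isIso_Q_map_iff_quasiIso (C := ModuleCat.{u} A) _).mpr hη
  let iso : Dual.inD A M ≅ DRing.toD (Dc.D J X) :=
    (sglIso (ModuleCat.of A M)).symm ≪≫
      @asIso _ _ _ _ (DerivedCategory.Q.map (Dc.η J (sgl (ModuleCat.of A M)))) this
  suffices hfin : Module.Finite A (G I J ((i + 1 : ℕ) : ℤ) X) from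
    Module.Finite.equiv ((LocCompare.equiv I (i + 1) M).trans
      (TorsColim.congr I ((shiftFunctor (Dual.D A) ((i + 1 : ℕ) : ℤ)).mapIso iso))).symm
  obtain ⟨d, hd⟩ := exists_dual_bound e M
  refine finite_of_cohomology I J hJ _ 0 d X (fun j hj => hd j (by omega)) fun j hj hjd E _ _ eE => ?_
  obtain ⟨k, rfl⟩ : ∃ k : ℕ, j = k := ⟨j.toNat, by omega⟩
  haveI := finite_dual e M (k : ℤ)
  haveI : Module.Finite A E := Module.Finite.equiv eE
  rw [← Nat.cast_add]
  refine finite_G_module e I hJ (i + 1 + k) E fun P hP hann hIP q hq hPq hIq hht => ?_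
  obtain ⟨P', hPP', hcov, hIP'⟩ := exists_covBy I (P := ⟨P, hP⟩) (q := ⟨q, hq⟩) hPq hIP hIq
  haveI := (Gor.Ring.isGorensteinRing_of_isRegularRing A).isGorensteinLocalRing_localization P'.asIdeal
  obtain ⟨c, hc⟩ := Gor.Basic.exists_natCast_ringKrullDim (A := Localization.AtPrime P'.asIdeal)
  have hcm : _root_.LocCoh.IsCohenMacaulayModule (Localization.AtPrime q) (LocalizedModule q.primeCompl A) := by
    haveI := (Gor.Ring.isGorensteinRing_of_isRegularRing A).isGorensteinLocalRing_localization q
    rw [Depth.isCohenMacaulayModule_congr (Depth.localizedModuleSelfEquiv q.primeCompl)]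
    exact (Depth.isCohenMacaulayLocalRing_iff (R := Localization.AtPrime q)).mp
      (Gor.Basic.isCohenMacaulay_of_gorenstein (A := Localization.AtPrime q))
  have hsupp : Module.support A A = Set.univ := by
    refine Set.eq_univ_of_forall fun Q => ?_
    rw [Module.mem_support_iff_of_finite, Module.annihilator_eq_bot.2 inferInstance]
    exact bot_le
  have hh : q.height = P'.asIdeal.height + 1 := CMCat.height_covBy_of_cm (M := A) hcov hcm hsupp
  have hc' : P'.asIdeal.height = c := WithBot.coe_injective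
    ((IsLocalization.AtPrime.ringKrullDim_eq_height P'.asIdeal _).symm.trans hc)
  have hck : i + k = c := by
    rw [hht, hc'] at hh
    norm_cast at hh
    omega
  have hloc := (DualShiftPrime.subsingleton_H_iff_ext _ hc hck).mp (h P' ⟨q, hq⟩ hIP' hIq hcov i rfl)
  have hext := (DualShiftPrime.subsingleton_ext_atPrime_iff A M P'.asIdeal k).mp hloc
  have hsup : (⟨P'.asIdeal, P'.2⟩ : PrimeSpectrum A) ∈ Module.support A E :=
    Module.mem_support_iff_of_finite.mpr (hann.trans hPP')
  obtain ⟨y, hy⟩ := Module.mem_support_iff'.mp hsup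
  obtain ⟨z, rfl⟩ := eE.surjective y
  obtain ⟨s, hs⟩ := hext (homExt e M k z)
  refine hy s.1 s.2 ?_
  rw [← map_smul] at hs ⊢
  rw [(homExt e M k).map_eq_zero_iff.mp hs, map_zero]

end Groth.Agent.DualFinite
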