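import Groth.Agent.DualFinite.GFun
import Groth.Agent.DualShiftPrime.Basic
import Groth.Agent.DRing.PCTrunc

/-!
# `colim_n Hom(A/I^n, D(E)[m])` for finite modules over a regular ring

It is finite when `E` is killed by a power of `I`, and vanishes for `A/P`, `I ⊄ P`, when no prime
containing `P + I` has height `m`.
-/

set_option autoImplicit false
set_option linter.style.haveILetI false
universe u

open CategoryTheory CategoryTheory.Limits CategoryTheory.Pretriangulated DerivedCategory
open IsLocalRing (ResidueField)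

attribute [local instance] HasDerivedCategory.standard

noncomputable section

namespace Groth.Agent.DualFinite

open DualCx DualCx.Biduality
open DualCx.Amplitude (sgl sglIso)
open TorsColim (L)

variable {A : Type u} [CommRing A] {J : DRing.Cx A} [J.IsKInjective]
  (e : DRing.toD J ≅ Dual.inD A A)

/-- `H^k D(E) = Ext^k(E, A)` -/
def homExt (E : Type u) [AddCommGroup E] [Module A E] (k : ℕ) :
    (Dc.D J (sgl (ModuleCat.of A E))).homology (k : ℤ) ≃ₗ[A]
      Abelian.Ext.{u} (ModuleCat.of A E) (ModuleCat.of A A) k :=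
  (Dc.hEquiv J _ (k : ℤ)).symm.trans
    ((Hom.congr A (sglIso _) ((shiftFunctor (Dual.D A) (k : ℤ)).mapIso e)).trans
      Abelian.Ext.homLinearEquiv.symm)

include e

theorem subsingleton_dual_neg (E : Type u) [AddCommGroup E] [Module A E] (k : ℤ) (hk : k < 0) :
    Subsingleton ((Dc.D J (sgl (ModuleCat.of A E))).homology k) := by
  have h0 : (Dual.inD A A).IsGE 0 :=
    inferInstanceAs (((DerivedCategory.singleFunctor (ModuleCat.{u} A) 0).obj _).IsGE 0)
  have : (DRing.toD J).IsGE 0 := DerivedCategory.TStructure.t.isGE_of_iso e.symm 0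
  have : ((DRing.toD J)⟦k⟧).IsGE (-k) :=
    DerivedCategory.TStructure.t.isGE_shift (DRing.toD J) 0 k (-k) (by omega)
  have hle : ((DerivedCategory.singleFunctor (ModuleCat.{u} A) 0).obj (ModuleCat.of A E)).IsLE 0 :=
    inferInstance
  have : (DRing.toD (sgl (ModuleCat.of A E))).IsLE 0 :=
    DerivedCategory.TStructure.t.isLE_of_iso (sglIso _).symm 0
  have : Subsingleton (DRing.toD (sgl (ModuleCat.of A E)) ⟶ (DRing.toD J)⟦k⟧) :=
    subsingleton_of_forall_eq 0 fun f => DerivedCategory.TStructure.t.zero f 0 (-k) (by omega)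
  exact (Dc.hEquiv J _ k).symm.toEquiv.subsingleton

theorem exists_dual_bound [IsRegularRing A] (E : Type u) [AddCommGroup E] [Module A E]
    [Module.Finite A E] : ∃ d : ℕ, ∀ k : ℤ, (k < 0 ∨ (d : ℤ) ≤ k) →
      Subsingleton ((Dc.D J (sgl (ModuleCat.of A E))).homology k) := by
  obtain ⟨d, hd⟩ := S5165.result A E
  refine ⟨d + 1, fun k hk => ?_⟩
  rcases hk with hk | hk
  · exact subsingleton_dual_neg e E k hk
  · obtain ⟨n, rfl⟩ : ∃ n : ℕ, k = n := ⟨k.toNat, by omega⟩
    have := HasProjectiveDimensionLT.subsingleton.{u} (ModuleCat.of A E) (d + 1) n (by omega)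
      (ModuleCat.of A A)
    exact (homExt e E n).toEquiv.subsingleton

theorem finite_dual [IsNoetherianRing A] (E : Type u) [AddCommGroup E] [Module A E]
    [Module.Finite A E] (k : ℤ) :
    Module.Finite A ((Dc.D J (sgl (ModuleCat.of A E))).homology k) := by
  have h0 : (Dual.inD A A).IsGE 0 :=
    inferInstanceAs (((DerivedCategory.singleFunctor (ModuleCat.{u} A) 0).obj _).IsGE 0)
  have : (DRing.toD J).IsGE 0 := DerivedCategory.TStructure.t.isGE_of_iso e.symm 0
  have hs : ∀ (N : ModuleCat.{u} A) [Module.Finite A N] (i : ℤ),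
      Module.Finite A (Dual.HD A (DRing.toD (sgl N)) i) := fun N _ i =>
    have := finite_sgl N i
    Module.Finite.equiv (DRing.DBasic.hIso (sgl N) i).toLinearEquiv.symm
  have hf : ∀ i, Module.Finite A (Dual.HD A (DRing.toD J) i) := fun i =>
    have := hs (ModuleCat.of A A) i
    Module.Finite.equiv
      ((DRing.DBasic.HF i).mapIso (e ≪≫ (sglIso (ModuleCat.of A A)).symm)).toLinearEquiv.symm
  have hX := hs (ModuleCat.of A E)
  have : ((DerivedCategory.singleFunctor (ModuleCat.{u} A) 0).obj (ModuleCat.of A E)).IsLE 0 :=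
    inferInstance
  have : ((DerivedCategory.singleFunctor (ModuleCat.{u} A) 0).obj (ModuleCat.of A E)).IsGE 0 :=
    inferInstance
  have := finite_hom_bounded (I := J) 0 hf (DRing.toD (sgl (ModuleCat.of A E))) 0 0
    (DerivedCategory.TStructure.t.isGE_of_iso (sglIso _).symm 0)
    (DerivedCategory.TStructure.t.isLE_of_iso (sglIso _).symm 0) hX k
  exact Module.Finite.equiv (Dc.hEquiv J _ k)

omit e [J.IsKInjective] in
theorem smul_dual_eq_zero (E : Type u) [AddCommGroup E] [Module A E] {a : A} (ha : ∀ x : E, a • x = 0)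
    (k : ℤ) (h : (Dc.D J (sgl (ModuleCat.of A E))).homology k) : a • h = 0 := by
  obtain ⟨z, hz, rfl⟩ := DRing.Homology.cls_surjective h
  rw [← DRing.Homology.cls_smul hz a]
  have h0 : a • z = 0 := by
    refine CochainComplex.HomComplex.Cochain.ext (z₁ := a • (z : CochainComplex.HomComplex.Cochain _ _ k))
      (z₂ := 0) fun p q hpq => ?_
    erw [CochainComplex.HomComplex.Cochain.smul_v]
    by_cases hp : p = 0
    · subst hp
      refine ModuleCat.hom_ext (LinearMap.ext fun x => ?_)
      obtain ⟨y, rfl⟩ := (HomologicalComplex.singleObjXSelf (ComplexShape.up ℤ) (0 : ℤ)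
        (ModuleCat.of A E)).symm.toLinearEquiv.surjective x
      change a • (CochainComplex.HomComplex.Cochain.v z 0 q hpq).hom _ = 0
      rw [← map_smul]
      refine Eq.trans (congrArg _ ?_) (map_zero _)
      exact (map_smul _ a y).symm.trans ((congrArg _ (ha y)).trans (LinearEquiv.map_zero _))
    · exact (HomologicalComplex.isZero_single_obj_X (ComplexShape.up ℤ) (0 : ℤ)
        (ModuleCat.of A E) p hp).eq_of_src _ _
  refine (DRing.Homology.cls_eq_zero_iff (k - 1) (by omega) _).mpr ⟨0, ?_⟩
  rw [h0, map_zero]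

variable (I : Ideal A) (hJ : ∀ q, Injective (J.X q))

/-- modules killed by a power of `I` only contribute through `Ext^m` -/
theorem finite_G_torsion [IsRegularRing A] (E : Type u) [AddCommGroup E] [Module A E] [Module.Finite A E]
    {k : ℕ} (hk : ∀ a ∈ I ^ k, ∀ x : E, a • x = 0) (m : ℤ) :
    Module.Finite A (G I J m (sgl (ModuleCat.of A E))) ∧
      (Subsingleton ((Dc.D J (sgl (ModuleCat.of A E))).homology m) →
        Subsingleton (G I J m (sgl (ModuleCat.of A E)))) := by
  obtain ⟨d, hd⟩ := exists_dual_bound e E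
  let X := Dc.D J (sgl (ModuleCat.of A E))
  have hb : ∀ i, i < (0 : ℤ) ∨ (d : ℤ) < i → Subsingleton (Dual.HD A (DRing.toD X) i) := fun i hi => by
    have := hd i (by omega)
    exact (DRing.DBasic.hIso X i).toLinearEquiv.toEquiv.subsingleton
  refine DRing.Devissage.of_cohomology
    (fun K => Module.Finite A (L I (K⟦m⟧)) ∧
      (Subsingleton (X.homology m) → Subsingleton (L I (K⟦m⟧))))
    (fun {K K'} i h => by
      let c := TorsColim.congr I ((shiftFunctor (Dual.D A) m).mapIso i)
      have := h.1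
      exact ⟨Module.Finite.equiv c, fun hz =>
        have := h.2 hz; c.symm.toEquiv.subsingleton⟩)
    (fun K hK => by
      have := L_isZero I ((shiftFunctor (Dual.D A) m).map_isZero hK)
      exact ⟨inferInstance, fun _ => inferInstance⟩)
    (fun T hT h₁ h₃ => ⟨L_mid_finite I hT m h₁.1 h₃.1,
      fun hz => L_mid_subsingleton I hT m (h₁.2 hz) (h₃.2 hz)⟩)
    (DRing.toD X) hb fun i => ?_
  let N := ModuleCat.of A (Dual.HD A (DRing.toD X) i)
  let eN : Dual.HD A (DRing.toD X) i ≃ₗ[A] X.homology i := (DRing.DBasic.hIso X i).toLinearEquiv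
  haveI := finite_dual e E i
  haveI : Module.Finite A N := Module.Finite.equiv eN.symm
  have htor : ∀ x : N, ∃ n : ℕ, ∀ r ∈ I ^ n, r • x = 0 := fun x => ⟨k, fun r hr => eN.injective (by
    rw [map_smul, map_zero]
    exact smul_dual_eq_zero E (hk r hr) i _)⟩
  let c : L I ((Dual.inD A N)⟦-i + m⟧) ≃ₗ[A]
      L I ((DRing.toD (DRing.PC.sgl i N))⟦m⟧) :=
    TorsColim.congr I ((shiftFunctorAdd (Dual.D A) (-i) m).app _ ≪≫
      (shiftFunctor (Dual.D A) m).mapIso (DRing.PC.inDShiftIso N i))
  by_cases hi : i = m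
  · subst hi
    have h1 : Module.Finite A (L I ((Dual.inD A N)⟦((0 : ℕ) : ℤ)⟧)) := by
      have h0 : Module.Finite A (_root_.LocCoh.H I 0 N) :=
        LocCoh.finite_H_zero (I := I) (ModuleCat.of A N)
      exact Module.Finite.equiv (LocCompare.equiv I 0 N)
    let z : L I ((Dual.inD A N)⟦((0 : ℕ) : ℤ)⟧) ≃ₗ[A] L I ((Dual.inD A N)⟦-i + i⟧) :=
      TorsColim.congr I (eqToIso (by rw [neg_add_cancel]; rfl))
    refine ⟨Module.Finite.equiv (z.trans c), fun hz => ?_⟩
    have : Subsingleton N := eN.toEquiv.subsingleton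
    have hz0 : IsZero ((Dual.inD A N)⟦-i + i⟧) := (shiftFunctor (Dual.D A) _).map_isZero
      ((DerivedCategory.singleFunctor (ModuleCat.{u} A) 0).map_isZero (ModuleCat.isZero_of_subsingleton _))
    have := L_isZero I hz0
    exact c.symm.toEquiv.subsingleton
  · have := LocalDuality.subsingleton_L_torsion I N htor (-i + m) (by omega)
    have : Subsingleton (L I ((DRing.toD (DRing.PC.sgl i N))⟦m⟧)) := c.symm.toEquiv.subsingleton
    exact ⟨inferInstance, fun _ => this⟩

section SES

variable [IsNoetherianRing A] {M₁ M₂ M₃ : Type u} [AddCommGroup M₁] [Module A M₁] [AddCommGroup M₂]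
    [Module A M₂] [AddCommGroup M₃] [Module A M₃] {f : M₁ →ₗ[A] M₂} {g : M₂ →ₗ[A] M₃}
    (hf : Function.Injective f) (hg : Function.Surjective g) (hfg : Function.Exact f g)
include hJ hf hg hfg

omit e [J.IsKInjective] in
theorem finite_G_mid (m : ℤ) (h₁ : Module.Finite A (G I J m (sgl (ModuleCat.of A M₁))))
    (h₃ : Module.Finite A (G I J m (sgl (ModuleCat.of A M₃)))) :
    Module.Finite A (G I J m (sgl (ModuleCat.of A M₂))) :=
  finite_mid I J hJ (srcS_shortExact hf hg hfg) m h₁ h₃

omit e [J.IsKInjective] in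
theorem subsingleton_G_mid (m : ℤ) (h₁ : Subsingleton (G I J m (sgl (ModuleCat.of A M₁))))
    (h₃ : Subsingleton (G I J m (sgl (ModuleCat.of A M₃)))) :
    Subsingleton (G I J m (sgl (ModuleCat.of A M₂))) :=
  subsingleton_mid I J hJ (srcS_shortExact hf hg hfg) m h₁ h₃

end SES

omit e [J.IsKInjective] in
include hJ in
/-- multiplication by an element of `I` regular on `E` -/
theorem subsingleton_G_of_regular [IsNoetherianRing A] (E : Type u) [AddCommGroup E] [Module A E]
    {x : A} (hxI : x ∈ I) (hx : Function.Injective (x • LinearMap.id : E →ₗ[A] E)) (m : ℤ)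
    (h : Subsingleton (G I J m (sgl (ModuleCat.of A
      (E ⧸ LinearMap.range (x • LinearMap.id : E →ₗ[A] E)))))) :
    Subsingleton (G I J m (sgl (ModuleCat.of A E))) := by
  have hfg : Function.Exact (x • LinearMap.id : E →ₗ[A] E)
      (LinearMap.range (x • LinearMap.id : E →ₗ[A] E)).mkQ :=
    LinearMap.exact_map_mkQ_range _
  have hS := srcS_shortExact hx (Submodule.mkQ_surjective _) hfg
  have hinj := injective_map_f I J hJ hS m h
  have hkey : ((DerivedCategory.Q.map (Dc.map J (srcS hfg).f))⟦m⟧') =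
      x • 𝟙 ((DRing.toD (Dc.D J (sgl (ModuleCat.of A E))))⟦m⟧) := by
    have h1 : (srcS hfg).f = x • 𝟙 (sgl (ModuleCat.of A E)) := by
      change (CochainComplex.singleFunctor (ModuleCat.{u} A) 0).map
        (ModuleCat.ofHom (x • LinearMap.id : E →ₗ[A] E)) = _
      rw [show ModuleCat.ofHom (x • LinearMap.id : E →ₗ[A] E) = x • 𝟙 (ModuleCat.of A E) from rfl,
        Functor.map_smul, CategoryTheory.Functor.map_id]
    rw [h1]
    erw [Dc.map_smul, Dc.map_id]
    simp
    erw [CategoryTheory.Functor.map_id, CategoryTheory.Functor.map_id]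
    rfl
  refine subsingleton_of_forall_eq 0 fun y => ?_
  obtain ⟨n, hn⟩ := TorsColim.isPowerTorsion I _ y
  have hp := hn (x ^ n) (Ideal.pow_mem_pow hxI n)
  clear hn
  have hinj' : ∀ z : G I J m (sgl (ModuleCat.of A E)), x • z = 0 → z = 0 := fun z hz => by
    refine hinj (Eq.trans ?_ (map_zero _).symm)
    change TorsColim.map I ((DerivedCategory.Q.map (Dc.map J (srcS hfg).f))⟦m⟧') z = 0
    rw [hkey]
    exact (LinearMap.congr_fun (TorsColim.map_smul_id I x _) z).trans hz
  induction n with
  | zero => simpa using hp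
  | succ n ih => exact ih (hinj' _ (by rwa [pow_succ', mul_smul] at hp))

end Groth.Agent.DualFinite
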