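import Groth.Agent.DualFinite.Main
import Groth.Agent.S11614
import Groth.Prelude

/-!
# Finiteness of local cohomology over a quotient of a regular ring
-/

set_option autoImplicit false
set_option linter.style.haveILetI false
universe u

open IsLocalRing

namespace Groth.Agent.DualFinite

variable {R A : Type u} [CommRing R] [IsRegularRing R] [CommRing A] [IsNoetherianRing A]

/-- A prime covered by a point of `V(I)` has relative codimension one. -/
theorem relCodim_eq_one_of_covBy {A : Type u} [CommRing A] (I : Ideal A) {p q : PrimeSpectrum A}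
    (hp : ¬ I ≤ p.asIdeal) (hq : I ≤ q.asIdeal) (hpq : p ⋖ q) : SGA2.relCodim I p = 1 := by
  refine le_antisymm ?_ ?_
  · refine (iInf_le (fun x : {x : PrimeSpectrum A // p ≤ x ∧ I ≤ x.asIdeal} =>
      Order.height (⟨x.1, x.2.1⟩ : Set.Ici p)) ⟨q, hpq.1.le, hq⟩).trans ?_
    refine Order.height_le fun t ht => ?_
    by_contra hlt
    have h2 : 2 ≤ t.length := by
      have : ((1 : ℕ) : ℕ∞) < (t.length : ℕ∞) := by simpa using not_le.mp hlt
      exact_mod_cast this
    have a01 : (t ⟨0, by omega⟩).1 < (t ⟨1, by omega⟩).1 := t.strictMono (by simp [Fin.lt_def])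
    have a12 : (t ⟨1, by omega⟩).1 < t.last.1 := t.strictMono (by simp [Fin.lt_def]; omega)
    rw [ht] at a12
    exact hpq.2 (lt_of_le_of_lt (t ⟨0, by omega⟩).2 a01) a12
  · refine le_iInf fun ⟨x, hx, hxI⟩ => ?_
    rw [Order.one_le_iff_ne_zero]
    refine fun h0 => hp ?_
    have : IsMin (⟨x, hx⟩ : Set.Ici p) := Order.height_eq_zero.mp h0
    exact hxI.trans (this (show (⟨p, Set.self_mem_Ici⟩ : Set.Ici p) ≤ ⟨x, hx⟩ from hx))

/-- **Finiteness over a quotient of a regular ring.** -/
theorem finite_H_quotient (π : R →+* A) (hπ : Function.Surjective π) (I : Ideal A) (M : Type u)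
    [AddCommGroup M] [Module A M] [Module.Finite A M] (i : ℕ)
    (h : ∀ p q : PrimeSpectrum A, ¬ I ≤ p.asIdeal → I ≤ q.asIdeal → p ⋖ q → ∀ j : ℕ, j + 1 = i →
      Subsingleton (_root_.LocCoh.H (maximalIdeal (Localization.AtPrime p.asIdeal)) j
        (LocalizedModule p.asIdeal.primeCompl M))) :
    Module.Finite A (_root_.LocCoh.H I i M) := by
  letI : Algebra R A := π.toAlgebra
  letI : Module R M := Module.compHom M π
  haveI : IsScalarTower R A M := ⟨fun r a m => mul_smul (π r) a m⟩
  haveI : Module.Finite R A := Module.Finite.of_surjective (Algebra.linearMap R A) hπ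
  haveI : Module.Finite R M := Module.Finite.trans A M
  let I' : Ideal R := I.comap (algebraMap R A)
  have hfin : Module.Finite R (_root_.LocCoh.H I' i M) := by
    refine finite_H I' M i fun P Q hP hQ hPQ j hj => ?_
    by_cases hker : RingHom.ker (algebraMap R A) ≤ P.asIdeal
    · have hr : ∀ T : PrimeSpectrum R, P ≤ T → ∃ t, PrimeSpectrum.comap (algebraMap R A) t = T := by
        intro T hT
        have : T ∈ Set.range (PrimeSpectrum.comap (algebraMap R A)) := by
          rw [_root_.range_comap_of_surjective _ (algebraMap R A) hπ]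
          exact fun x hx => hT (hker hx)
        exact this
      obtain ⟨p, rfl⟩ := hr P le_rfl
      obtain ⟨q, rfl⟩ := hr Q hPQ.1.le
      have hinj : ∀ a b : PrimeSpectrum A, PrimeSpectrum.comap (algebraMap R A) a ≤
          PrimeSpectrum.comap (algebraMap R A) b → a ≤ b := fun a b hab => by
        have := Ideal.map_mono (f := algebraMap R A) hab
        rwa [PrimeSpectrum.comap_asIdeal, PrimeSpectrum.comap_asIdeal,
          Ideal.map_comap_of_surjective (algebraMap R A) hπ,
          Ideal.map_comap_of_surjective (algebraMap R A) hπ] at this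
      have hcov : p ⋖ q := by
        refine ⟨⟨hinj _ _ hPQ.1.le, fun hle => hPQ.1.not_ge (Ideal.comap_mono hle)⟩, fun c hc hc' => ?_⟩
        exact hPQ.2 ⟨Ideal.comap_mono hc.le, fun hle => hc.not_ge (hinj _ _ hle)⟩
          ⟨Ideal.comap_mono hc'.le, fun hle => hc'.not_ge (hinj _ _ hle)⟩
      have hq : I ≤ q.asIdeal := fun a ha => by
        obtain ⟨r, rfl⟩ := hπ a
        exact hQ ha
      exact (DualShiftPrime.subsingleton_H_comap_iff M hπ p.asIdeal
        (PrimeSpectrum.comap (algebraMap R A) p).asIdeal rfl j).mp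
          (h p q (fun hle => hP (Ideal.comap_mono hle)) hq hcov j hj)
    · obtain ⟨s, hs, hsP⟩ := SetLike.not_le_iff_exists.mp hker
      have hsub : Subsingleton (LocalizedModule P.asIdeal.primeCompl M) := by
        rw [LocalizedModule.subsingleton_iff]
        refine fun m => ⟨s, hsP, ?_⟩
        rw [← algebraMap_smul A s m, RingHom.mem_ker.mp hs, zero_smul]
      exact LocCoh.SupportDimVanish.subsingleton_H_of_supportDim_lt' _ j _ (by
        rw [(Module.supportDim_eq_bot_iff_subsingleton _ _).mpr hsub]
        exact WithBot.bot_lt_coe _)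
  obtain ⟨φ, hφ⟩ := S11614.result R A I' M i
  suffices hres : Module.Finite A (_root_.LocCoh.H (I'.map (algebraMap R A)) i M) by
    rwa [Ideal.map_comap_of_surjective (algebraMap R A) hπ I] at hres
  obtain ⟨s, hs⟩ := hfin.fg_top
  classical
  refine ⟨⟨s.image φ.symm, Submodule.eq_top_iff'.mpr fun y => ?_⟩⟩
  rw [← φ.symm_apply_apply y]
  have hy : φ y ∈ Submodule.span R (s : Set (_root_.LocCoh.H I' i M)) := hs ▸ Submodule.mem_top
  generalize φ y = z at hy ⊢
  induction hy using Submodule.span_induction with
  | mem z hz => exact Submodule.subset_span (Finset.mem_coe.mpr (Finset.mem_image_of_mem _ hz))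
  | zero => rw [map_zero]; exact zero_mem _
  | add a b _ _ ha hb => rw [map_add]; exact add_mem ha hb
  | smul r a _ ha =>
    have : φ.symm (r • a) = algebraMap R A r • φ.symm a := φ.injective (by
      rw [φ.apply_symm_apply, hφ, φ.apply_symm_apply])
    rw [this]
    exact Submodule.smul_mem _ _ ha

end Groth.Agent.DualFinite
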